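import Groth.Agent.SepSurj.Basic
import Groth.Agent.S5938
import Groth.Agent.LimDesc.FPCancel
import Groth.Agent.GrpField.Translate
import Groth.Prelude.Def_AlgGrp
import Mathlib

/-!
# Quotients by open subgroups
-/

universe u

open CategoryTheory CategoryTheory.Limits MonoidalCategory CartesianMonoidalCategory MonObj AlgebraicGeometry

set_option backward.isDefEq.respectTransparency false

namespace Groth.Agent.GrpFppf

/-- flatness descends along flat surjections at the source -/
theorem flat_of_flat_surjective_comp {X Y Z : Scheme.{u}} (f : X ⟶ Y) (g : Y ⟶ Z) [Flat f] [Surjective f]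
    [Flat (f ≫ g)] : Flat g := by
  refine (Flat.iff_flat_stalkMap g).2 fun y => ?_
  obtain ⟨x, rfl⟩ := f.surjective y
  have h := Flat.stalkMap (f ≫ g) x
  rw [Scheme.Hom.stalkMap_comp, CommRingCat.hom_comp] at h
  algebraize [(g.stalkMap (f x)).hom, (f.stalkMap x).hom, (f.stalkMap x).hom.comp (g.stalkMap (f x)).hom]
  have : Module.Flat (Y.presheaf.stalk (f x)) (X.presheaf.stalk x) := Flat.stalkMap f x
  have : IsLocalHom (algebraMap (Y.presheaf.stalk (f x)) (X.presheaf.stalk x)) :=
    inferInstanceAs (IsLocalHom (f.stalkMap x).hom)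
  have : Module.FaithfullyFlat (Y.presheaf.stalk (f x)) (X.presheaf.stalk x) :=
    Module.FaithfullyFlat.of_flat_of_isLocalHom
  have : Module.Flat (Z.presheaf.stalk (g (f x))) (X.presheaf.stalk x) := h
  exact SepSurj.flat_of_comp_faithfullyFlat (T := X.presheaf.stalk x)

variable {S : Scheme.{u}} {G0 G Q : Over S} [GrpObj G0] [GrpObj G] [GrpObj Q]
variable (i : G0 ⟶ G) [IsMonHom i] (p : G ⟶ Q) [IsMonHom p]

/-- A quotient by a flat open subgroup is étale. -/
theorem etale_of_isKernel [IsLocallyNoetherian S] [Flat G.hom] [LocallyOfFiniteType G.hom]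
    [IsOpenImmersion i.left] [Surjective p.left] [Flat p.left] [LocallyOfFinitePresentation p.left]
    (hK : AlgGrp.IsKernel i p) : Etale Q.hom := by
  have : Flat (p.left ≫ Q.hom) := by rw [Over.w p]; infer_instance
  have : LocallyOfFiniteType (p.left ≫ Q.hom) := by rw [Over.w p]; infer_instance
  have : Flat Q.hom := flat_of_flat_surjective_comp p.left Q.hom
  have : LocallyOfFiniteType Q.hom := S5938.result p.left Q.hom
  have : LocallyOfFinitePresentation Q.hom := inferInstance
  let e : S ⟶ Q.left := η[Q].left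
  have he : e ≫ Q.hom = 𝟙 S := Over.w η[Q]
  have : IsSplitMono e := IsSplitMono.mk' ⟨Q.hom, he⟩
  have hw : (toUnit G0).left = G0.hom := (Category.comp_id _).symm.trans (Over.w (toUnit G0))
  have : Flat G0.hom := by rw [← Over.w i]; infer_instance
  have : Surjective G0.hom := ⟨fun s => ⟨η[G0].left s, by
    rw [← Scheme.Hom.comp_apply, Over.w η[G0]]; rfl⟩⟩
  have : Flat (G0.hom ≫ e) := by
    have h : (i ≫ p).left = G0.hom ≫ e := by
      rw [show i ≫ p = toUnit G0 ≫ η[Q] from hK.w, Over.comp_left, hw]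
    rw [← h, Over.comp_left]
    infer_instance
  have : Flat e := flat_of_flat_surjective_comp G0.hom e
  have : LocallyOfFinitePresentation (e ≫ Q.hom) := by rw [he]; infer_instance
  have : LocallyOfFinitePresentation e := LimDesc.lfp_of_comp e Q.hom
  have : IsOpenImmersion e := IsOpenImmersion.of_flat_of_mono e
  -- the diagonal is a base change of the unit section
  let d : Q ⊗ Q ⟶ Q := (fst Q Q)⁻¹ * snd Q Q
  have hsq : IsPullback (lift (𝟙 Q) (𝟙 Q)) (toUnit Q) d η[Q] := by
    have hd : ∀ {T : Over S} (t : T ⟶ Q ⊗ Q), t ≫ d = (t ≫ fst Q Q)⁻¹ * (t ≫ snd Q Q) := fun t => by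
      simp [d, comp_mul, GrpObj.comp_inv]
    refine ⟨⟨by rw [hd, lift_fst, lift_snd, inv_mul_cancel, Hom.one_def]⟩,
      ⟨PullbackCone.IsLimit.mk _ (fun s => s.fst ≫ fst Q Q) (fun s => ?_) (fun s => toUnit_unique _ _)
        (fun s m h1 _ => by rw [← h1, Category.assoc, lift_fst, Category.comp_id])⟩⟩
    have h := s.condition
    rw [hd, show s.snd = toUnit s.pt from toUnit_unique _ _, ← Hom.one_def, inv_mul_eq_one] at h
    apply CartesianMonoidalCategory.hom_ext
    · simp
    · simpa using h
  have hδ : (lift (𝟙 Q) (𝟙 Q)).left = pullback.diagonal Q.hom := by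
    apply pullback.hom_ext
    · rw [pullback.diagonal_fst]
      exact congrArg (fun k : Q ⟶ Q => k.left) (lift_fst (𝟙 Q) (𝟙 Q))
    · rw [pullback.diagonal_snd]
      exact congrArg (fun k : Q ⟶ Q => k.left) (lift_snd (𝟙 Q) (𝟙 Q))
  have : IsOpenImmersion (pullback.diagonal Q.hom) :=
    hδ ▸ MorphismProperty.of_isPullback (P := @IsOpenImmersion) (hsq.map (Over.forget S)).flip ‹IsOpenImmersion e›
  exact Etale.of_formallyUnramified_of_flat Q.hom

end Groth.Agent.GrpFppf
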